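import Cfsg.Agent.H465.Gen.BAbs

/-!
# The transpositions of the Baby Monster: colours of pairs, seeds (abstract part, helper465)

* `TS.braid_col`, `TS.comm_col` : the colour of a braid pair is 3, of a commuting pair centralised by an element of
  order 11 it is 1;
* `TS.seed` : two conjugates of `g` contain a product `τ p * τ q` with `(p, q)` of the colour of a displacement of `g`;
* `TS.exists_half` : a pair of colour 1 is of the form `(p, τ q • p)` with `(p, q)` of colour 4;
* `TS.eleven` : eleven conjugates.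
-/

set_option autoImplicit false
set_option linter.unusedSectionVars false

namespace Cfsg.Agent.H465.Gen.BAbs.TS

open Cfsg.Agent.H816.IMEig Cfsg.Agent.H816.IMEig.Col Subgroup

variable {Γ X : Type} [Group Γ] [MulAction Γ X] {c : X → X → Fin 5} {τ : X → Γ} (S : TS c τ)
include S

theorem inv_eq (x : X) : (τ x)⁻¹ = τ x := inv_eq_of_mul_eq_one_left (S.sq x)

theorem tau_smul (p q : X) : τ (τ p • q) = τ p * τ q * τ p := by
  rw [S.smul, S.inv_eq]

/-- the colour of a braid pair -/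
theorem braid_col {p q : X} (hne : p ≠ q) (h : τ p * τ q * τ p = τ q * τ p * τ q) : c p q = 3 := by
  have h1 : τ p • q = τ q • p := by
    apply S.inj
    rw [S.tau_smul, S.tau_smul, h]
  have h2 : c (τ p • q) q = c p q := by
    rw [h1]
    conv_lhs => rw [← S.fix_self q]
    rw [show τ (τ q • q) • p = τ q • p by rw [S.fix_self]]
    rw [S.col.inv]
  obtain ⟨c0, c1, c2, -, c4⟩ := S.colours p q
  obtain ⟨u, hu⟩ : ∃ u, c p q = u := ⟨_, rfl⟩
  fin_cases u
  · exact absurd ((S.col.diag _ _).1 hu) hne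
  · have h3 := c1 hu
    rw [h2] at h3
    exact absurd ((S.col.diag _ _).1 h3) hne
  · have h3 := c2 hu
    rw [h2] at h3
    exact absurd ((S.col.diag _ _).1 h3) hne
  · exact hu
  · have h3 := c4 hu
    rw [h2, hu] at h3
    exact absurd h3 (by decide)

/-- the stabiliser of two points -/
theorem dvd_pair {p q : X} {e : Γ} (he : orderOf e = 11) (h1 : e • p = p) (h2 : e • q = q) :
    ∃ m, 11 * m * (13571955000 * kv (c p q)) = 4154781481226426191177580544000000 := by
  classical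
  have := S.finG
  have := S.finX
  have ho : MulAction.orbit Γ (p, q) = {r : X × X | c r.1 r.2 = c p q} := by
    ext r
    constructor
    · rintro ⟨g, rfl⟩
      exact S.col.inv g p q
    · intro hr
      obtain ⟨g, h1, h2⟩ := S.col.tr p q r.1 r.2 (Eq.symm hr)
      exact ⟨g, Prod.ext h1 h2⟩
  have h3 := Subgroup.card_mul_index (MulAction.stabilizer Γ (p, q))
  rw [MulAction.index_stabilizer, ho, S.card, ← Nat.card_coe_set_eq] at h3
  have h4 : Nat.card {r : X × X | c r.1 r.2 = c p q} = 13571955000 * kv (c p q) := by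
    have h5 := S.col.card_pairs p (c p q)
    rw [S.cardX] at h5
    have h6 : kk c p (c p q) = kv (c p q) := S.kk_eq p (c p q)
    rw [h6] at h5
    exact h5
  rw [h4] at h3
  have h5 : 11 ∣ Nat.card (MulAction.stabilizer Γ (p, q)) := by
    have hm : e ∈ MulAction.stabilizer Γ (p, q) := by
      rw [MulAction.mem_stabilizer_iff]
      exact Prod.ext h1 h2
    rw [← he, ← Subgroup.orderOf_mk e hm]
    exact orderOf_dvd_natCard _
  obtain ⟨m, hm⟩ := h5
  exact ⟨m, by rw [← hm]; exact h3⟩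

/-- the colour of a commuting pair centralised by an element of order 11 -/
theorem comm_col {p q : X} (hne : p ≠ q) (h : τ p * τ q = τ q * τ p) {e : Γ} (he : orderOf e = 11)
    (h1 : e * τ p = τ p * e) (h2 : e * τ q = τ q * e) : c p q = 1 := by
  have h3 : τ p • q = q := S.fix _ _ h
  have h4 : c (τ p • q) q = 0 := by rw [h3, S.col.self]
  obtain ⟨c0, c1, c2, c3, c4⟩ := S.colours p q
  obtain ⟨m, hm⟩ := S.dvd_pair he (S.fix _ _ h1) (S.fix _ _ h2)
  obtain ⟨u, hu⟩ : ∃ u, c p q = u := ⟨_, rfl⟩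
  rw [hu] at hm
  fin_cases u
  · exact absurd ((S.col.diag _ _).1 hu) hne
  · exact hu
  · exfalso
    have h5 : kv 2 = 23113728 := rfl
    change 11 * m * (13571955000 * kv 2) = _ at hm
    rw [h5] at hm
    omega
  · have h5 := c3 hu
    rw [h4] at h5
    exact absurd h5 (by decide)
  · have h5 := c4 hu
    rw [h4] at h5
    exact absurd h5 (by decide)

/-- two conjugates contain a product of two transpositions -/
theorem seed {g : Γ} {y₀ : X} {p q : X} (h : c p q = c (g • y₀) y₀) :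
    ∃ s : Γ, (s * g * s⁻¹) • q = p ∧ ∀ Y : Subgroup Γ, s * g * s⁻¹ ∈ Y → τ q * s * g * (τ q * s)⁻¹ ∈ Y →
      τ p * τ q ∈ Y := by
  obtain ⟨s, h1, h2⟩ := S.col.tr (g • y₀) y₀ p q h.symm
  have h3 : (s * g * s⁻¹) • q = p := by
    rw [← h2, mul_smul, mul_smul, inv_smul_smul, h1]
  refine ⟨s, h3, fun Y hY1 hY2 => ?_⟩
  have h4 : τ p * τ q = s * g * s⁻¹ * (τ q * s * g * (τ q * s)⁻¹)⁻¹ := by
    rw [← h3, S.smul]
    have h5 := S.inv_eq q
    calc s * g * s⁻¹ * τ q * (s * g * s⁻¹)⁻¹ * τ q = s * g * s⁻¹ * (τ q * s * g⁻¹ * (s⁻¹ * τ q)) := by group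
      _ = s * g * s⁻¹ * (τ q * s * g⁻¹ * (s⁻¹ * (τ q)⁻¹)) := by rw [h5]
      _ = s * g * s⁻¹ * (τ q * s * g * (τ q * s)⁻¹)⁻¹ := by group
  rw [h4]
  exact Y.mul_mem hY1 (Y.inv_mem hY2)

/-- pairs of colour 1 from pairs of colour 4 -/
theorem exists_half {p w : X} (h : c p w = 1) : ∃ q, c p q = 4 ∧ τ q • p = w := by
  obtain ⟨q₀, hq⟩ := S.exists_col p 4
  obtain ⟨-, -, -, -, c4⟩ := S.colours q₀ p
  have h1 := c4 (by rw [S.col.symm]; exact hq)
  rw [S.col.symm] at h1
  obtain ⟨s, h2, h3⟩ := S.col.tr p (τ q₀ • p) p w (by rw [h1, h])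
  refine ⟨s • q₀, ?_, ?_⟩
  · have h4 := S.col.inv s p q₀
    rw [h2, hq] at h4
    exact h4
  · rw [S.smul]
    conv_lhs => rw [← h2]
    rw [mul_smul, mul_smul, inv_smul_smul, h3]

/-- the square of a product -/
theorem sq_prod {p q w : X} (h : τ q • p = w) : τ p * τ q * (τ p * τ q) = τ p * τ w := by
  rw [← h, S.tau_smul]
  group

/-- **Eleven conjugates.** -/
theorem eleven {g : Γ} {y₀ : X} {u w : Fin 5 → X} {a b : X} (hs : ∀ i, c (u i) (w i) = c (g • y₀) y₀)
    (hab : c b a = c (g • y₀) y₀)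
    (hY : ∀ Y : Subgroup Γ, (∀ i, τ (u i) * τ (w i) ∈ Y) → (τ a ∈ Y → τ b ∈ Y) → Y = ⊤) :
    ∃ f : Fin 11 → Γ, closure (Set.range fun i => f i * g * (f i)⁻¹) = ⊤ := by
  choose s hs1 hs2 using fun i => S.seed (hs i)
  obtain ⟨s', h1, -⟩ := S.seed hab
  refine ⟨fun i => Fin.append (Fin.append s (fun i => τ (w i) * s i)) (fun _ : Fin 1 => s') i, hY _ ?_ ?_⟩
  · intro i
    apply hs2
    · refine Subgroup.subset_closure ⟨Fin.castAdd 1 (Fin.castAdd 5 i), ?_⟩
      simp only [Fin.append_left]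
    · refine Subgroup.subset_closure ⟨Fin.castAdd 1 (Fin.natAdd 5 i), ?_⟩
      simp only [Fin.append_left, Fin.append_right]
  · intro ha
    have h2 : s' * g * s'⁻¹ ∈ closure (Set.range fun i =>
        Fin.append (Fin.append s (fun i => τ (w i) * s i)) (fun _ : Fin 1 => s') i * g *
        (Fin.append (Fin.append s (fun i => τ (w i) * s i)) (fun _ : Fin 1 => s') i)⁻¹) := by
      refine Subgroup.subset_closure ⟨Fin.natAdd 10 (0 : Fin 1), ?_⟩
      simp only [Fin.append_right]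
    rw [← h1, S.smul]
    exact Subgroup.mul_mem _ (Subgroup.mul_mem _ h2 ha) (Subgroup.inv_mem _ h2)

end Cfsg.Agent.H465.Gen.BAbs.TS
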