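import Cfsg.Agent.H465.Gen.BDisp
import Cfsg.Agent.H465.Gen.BAbsTwo
import Cfsg.Agent.H465.Gen.FiTwentyThree
import Cfsg.Agent.BM.Psi
import Cfsg.Agent.BM.KHAll
import Cfsg.Agent.CpAut.TwoInnerB

/-!
# S4327, the Baby Monster (helper465)

Ten conjugates of `g ≠ 1` generate a group containing `psi(Fi23) = ⟨t1, …, t10⟩` and an eleventh one brings `t11`.

* `cg11` : eleven conjugates of any `g ≠ 1` generate the model `M.G`;
* `gen_b` : the row.
-/

set_option autoImplicit false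
set_option linter.constructorNameAsVariable false

namespace Cfsg.Agent.H465.Gen.BRow

open Subgroup Cfsg Cfsg.Spor Cfsg.Agent.H147.Gen
open Cfsg.Agent.BabyM.Inst Cfsg.Agent.H995.BSch Cfsg.Agent.H995.BSchVal
open Cfsg.Agent.H465.Gen.BDisp Cfsg.Agent.BM.Psi
open Cfsg.Agent.R08.FiTwentyThree (D gen_mem_D z0_mem_D)
open Cfsg.Agent.Fischer.Fi23Hom (gen)

universe u

theorem rel : Rel BM.StageW.x := BM.StageW.rel BabyM.Instance.all BabyM.Instance.ok

/-- the point of a generator -/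
noncomputable def pt (t : BabyMonster.Gen) : X M := (exists_pt t).choose

theorem pt_spec (t : BabyMonster.Gen) : BM.StageW.x t = τ (pt t) := (exists_pt t).choose_spec

theorem tau_ne_one (x : X M) : τ x ≠ 1 := by
  intro h
  obtain ⟨z, hz⟩ := ts.exists_col x 4
  have h1 := (ts.colours x z).2.2.2.2 hz
  rw [h, one_smul, ts.col.self] at h1
  exact absurd h1 (by decide)

/-- elements of order 11 centralising a commuting pair of transpositions of `Fi23` -/
theorem exists_eleven {u w : Fi23} (hu : u ∈ D) (hw : w ∈ D) (hne : u ≠ w) (hc : u * w = w * u) :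
    ∃ e : Fi23, orderOf e = 11 ∧ e * u = u * e ∧ e * w = w * e := by
  have h0 := KFacts.FiTTh.Cent.card_C2
  have h1 : 11 ∣ Nat.card KFacts.FiTTh.Cent.C2 := by omega
  have : Finite Fi23 := R08.FiTwentyThree.finite_fi23
  have : Fact (Nat.Prime 11) := ⟨by norm_num⟩
  obtain ⟨y, hy⟩ := exists_prime_orderOf_dvd_card' 11 h1
  obtain ⟨h, hh, hp⟩ := KFacts.FiTTh.Cent.exists_a
  have c1 : (y : Fi23) * Fischer.Fi23Z.z0 = Fischer.Fi23Z.z0 * y := (KFacts.FiTTh.Cent.rho0_iff _).1 y.2.1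
  have c2 : (y : Fi23) * gen .a = gen .a * y := by
    rw [← hh]
    refine (KFacts.FiTTh.Cent.fixes_iff _ h).1 ?_
    rw [hp]
    exact y.2.2
  obtain ⟨g, g1, g2⟩ := FiTwentyThree.rank3.trans2 _ z0_mem_D _ (gen_mem_D .a) u hu w hw
    KFacts.FiTTh.Cent.ne_gen_a.symm hne KFacts.FiTTh.Cent.za.symm hc
  refine ⟨g * y * g⁻¹, ?_, ?_, ?_⟩
  · have h2 : orderOf (MulAut.conj g (y : Fi23)) = orderOf (y : Fi23) := MulEquiv.orderOf_eq _ _
    rw [MulAut.conj_apply] at h2
    rw [h2, Subgroup.orderOf_coe, hy]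
  · rw [← g1]
    calc g * (y : Fi23) * g⁻¹ * (g * Fischer.Fi23Z.z0 * g⁻¹) = g * ((y : Fi23) * Fischer.Fi23Z.z0) * g⁻¹ := by group
      _ = g * Fischer.Fi23Z.z0 * g⁻¹ * (g * (y : Fi23) * g⁻¹) := by rw [c1]; group
  · rw [← g2]
    calc g * (y : Fi23) * g⁻¹ * (g * gen .a * g⁻¹) = g * ((y : Fi23) * gen .a) * g⁻¹ := by group
      _ = g * gen .a * g⁻¹ * (g * (y : Fi23) * g⁻¹) := by rw [c2]; group

section Hom

variable {φ : Fi23 →* M.G} {q : Fi23.Gen → X M} (hφ : ∀ g, φ (gen g) = τ (q g))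
include hφ

theorem inj : Function.Injective φ := by
  have : IsSimpleGroup Fi23 := Fischer.Fi23Simple.isFi23.1
  rw [← MonoidHom.ker_eq_bot_iff]
  rcases (inferInstance : φ.ker.Normal).eq_bot_or_eq_top with h | h
  · exact h
  · exfalso
    have h1 : gen .a ∈ φ.ker := by rw [h]; trivial
    rw [MonoidHom.mem_ker, hφ] at h1
    exact tau_ne_one _ h1

theorem q_ne {g g' : Fi23.Gen} (h : gen g ≠ gen g') : q g ≠ q g' := by
  intro e
  apply h
  apply inj hφ
  rw [hφ, hφ, e]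

theorem col_comm_gen {g g' : Fi23.Gen} (h : gen g ≠ gen g') (hc : gen g * gen g' = gen g' * gen g) :
    cX M (q g) (q g') = 1 := by
  obtain ⟨e, h1, h2, h3⟩ := exists_eleven (gen_mem_D g) (gen_mem_D g') h hc
  refine ts.comm_col (q_ne hφ h) ?_ (e := φ e) ?_ ?_ ?_
  · rw [← hφ, ← hφ, ← map_mul, hc, map_mul]
  · rw [orderOf_injective φ (inj hφ), h1]
  · rw [← hφ, ← map_mul, h2, map_mul]
  · rw [← hφ, ← map_mul, h3, map_mul]

theorem col_braid_gen {g g' : Fi23.Gen} (h : gen g ≠ gen g')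
    (hb : gen g * gen g' * gen g = gen g' * gen g * gen g') : cX M (q g) (q g') = 3 := by
  refine ts.braid_col (q_ne hφ h) ?_
  rw [← hφ, ← hφ, ← map_mul, ← map_mul, hb, map_mul, map_mul]

end Hom

theorem psi1 (g : Fi23.Gen) : psi rel (gen g) = τ (pt (m1 g)) := by rw [psi_gen, pt_spec]

theorem psi2' (g : Fi23.Gen) : psi2 rel (gen g) = τ (pt (m2 g)) := by rw [psi2_gen, pt_spec]

theorem ne_ja : gen .j ≠ gen .a := by
  intro h
  apply Fischer.Fi23Class.z0_ncomm
  rw [h]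
  exact KFacts.FiTTh.Cent.za.symm

theorem c_t1_t11 : cX M (pt .t1) (pt .t11) = 1 :=
  col_comm_gen (q := fun g => pt (m2 g)) (g := .j) (g' := .a) psi2' ne_ja (FiTwentyThree.cox.comm .j .a rfl)

theorem c_t10_t11 : cX M (pt .t10) (pt .t11) = 3 :=
  col_braid_gen (q := fun g => pt (m2 g)) (g := .b) (g' := .a) psi2' FiTwentyThree.ab.symm
    (FiTwentyThree.cox.braid _ _ rfl)

/-- generation from the seeds -/
theorem top_of {U W : Fin 5 → Fi23.Gen} (hS : closure (Set.range fun i => gen (U i) * gen (W i)) = ⊤)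
    {Y : Subgroup M.G} (h : ∀ i, τ (pt (m1 (U i))) * τ (pt (m1 (W i))) ∈ Y)
    (h11 : (∀ g, τ (pt (m1 g)) ∈ Y) → τ (pt .t11) ∈ Y) : Y = ⊤ := by
  have h1 : (⊤ : Subgroup Fi23).map (psi rel) ≤ Y := by
    rw [← hS, MonoidHom.map_closure, closure_le]
    rintro _ ⟨_, ⟨i, rfl⟩, rfl⟩
    rw [map_mul, psi1, psi1]
    exact h i
  have h2 : ∀ g, τ (pt (m1 g)) ∈ Y := fun g => h1 ⟨gen g, mem_top _, psi1 g⟩
  have h3 := h11 h2
  rw [eq_top_iff, ← BM.StageWSurj.closure_x BabyM.Instance.all BabyM.Instance.ok, closure_le]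
  rintro _ ⟨t, rfl⟩
  rw [SetLike.mem_coe, pt_spec]
  cases t
  · exact h2 .j
  · exact h2 .g
  · exact h2 .f
  · exact h2 .e
  · exact h2 .d
  · exact h2 .c
  · exact h2 .b
  · exact h2 .a
  · exact h2 .h
  · exact h2 .i
  · exact h3

/-- **Eleven conjugates.** -/
theorem cg11 {g : M.G} (hg : g ≠ 1) : CG 11 g := by
  obtain ⟨y₀, hy⟩ := disp hg
  rcases hy with hy | hy | hy
  · -- colour 1
    refine ts.eleven (y₀ := y₀) (u := fun i => pt (m1 (Seeds.U' i))) (w := fun i => pt (m1 (Seeds.W' i)))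
      (a := pt .t1) (b := pt .t11) ?_ ?_ ?_
    · intro i
      rw [hy]
      exact col_comm_gen (q := fun g => pt (m1 g)) psi1 (Seeds.ne_UW' FiTwentyThree.cox FiTwentyThree.ab i)
        (Seeds.comm_UW' FiTwentyThree.cox i)
    · rw [hy, ts.col.symm, c_t1_t11]
    · intro Y h1 h2
      exact top_of FiTwentyThree.top_two h1 fun h3 => h2 (h3 .j)
  · -- colour 3
    refine ts.eleven (y₀ := y₀) (u := fun i => pt (m1 (Seeds.U i))) (w := fun i => pt (m1 (Seeds.W i)))
      (a := pt .t10) (b := pt .t11) ?_ ?_ ?_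
    · intro i
      rw [hy]
      refine col_braid_gen (q := fun g => pt (m1 g)) psi1 ?_ ?_
      · intro e
        apply Seeds.ncomm_UW FiTwentyThree.cox FiTwentyThree.ab i
        rw [e]
      · fin_cases i <;> exact FiTwentyThree.cox.braid _ _ rfl
    · rw [hy, ts.col.symm, c_t10_t11]
    · intro Y h1 h2
      exact top_of FiTwentyThree.top_one h1 fun h3 => h2 (h3 .i)
  · -- colour 4
    have hc : ∀ i, cX M (pt (m1 (Seeds.U' i))) (pt (m1 (Seeds.W' i))) = 1 := fun i =>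
      col_comm_gen (q := fun g => pt (m1 g)) psi1 (Seeds.ne_UW' FiTwentyThree.cox FiTwentyThree.ab i)
        (Seeds.comm_UW' FiTwentyThree.cox i)
    choose v hv1 hv2 using fun i => ts.exists_half (hc i)
    obtain ⟨b, hb1, hb2⟩ := ts.exists_half c_t1_t11
    refine ts.eleven (y₀ := y₀) (u := fun i => pt (m1 (Seeds.U' i))) (w := v) (a := pt .t1) (b := b) ?_ ?_ ?_
    · intro i
      rw [hy]
      exact hv1 i
    · rw [hy, ts.col.symm, hb1]
    · intro Y h1 h2
      refine top_of FiTwentyThree.top_two ?_ fun h3 => ?_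
      · intro i
        rw [← ts.sq_prod (hv2 i)]
        exact Y.mul_mem (h1 i) (h1 i)
      · have h4 := h2 (h3 .j)
        have h5 : τ (pt .t11) = τ b * τ (pt .t1) * τ b := by rw [← hb2, ts.tau_smul]
        rw [h5]
        exact Y.mul_mem (Y.mul_mem h4 (h3 .j)) h4

theorem center_bot : center Spor.BabyMonster = ⊥ := by
  rw [eq_bot_iff]
  intro g hg
  rw [mem_bot]
  have h1 := BDisp.center_eq_one (BM.KHAll.iso g) fun k => by
    obtain ⟨l, rfl⟩ := BM.KHAll.iso.surjective k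
    rw [← map_mul, ← map_mul, (mem_center_iff.1 hg l).symm]
  exact (MulEquiv.map_eq_one_iff _).1 h1

theorem genI (p : ℕ) (hp : p.Prime) : GenI M.G 11 p := fun g hg => cg11 fun h => by
  rw [h, orderOf_one] at hg
  exact hp.one_lt.ne hg

theorem gen11 : Gen11 Spor.BabyMonster :=
  gen11_of_inner center_bot (fun p hp => (genI p hp).congr BM.KHAll.iso.symm) fun x => by
    obtain ⟨g, hg⟩ := CpAut.TwoInner.inner_b x
    exact ⟨g, hg.symm⟩

/-- **The row `B`** -/
theorem gen_b {K : Type u} [Group K] (h : Spor.IsoB K) : Gen11 K := gen11.congr h.some.symm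

end Cfsg.Agent.H465.Gen.BRow
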