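import Mathlib

/-!
# Centralizers of transpositions are maximal (abstract form, helper465)

`T` a set of elements of `G` closed under conjugation, `N` a subgroup transitive on the pairs of distinct commuting
(non-commuting) members of `T`, the commuting graph on `T` and its complement have the link property: a subgroup
`M ≤ N` which contains `C_N(t)` and an element not commuting with `t` is `N`.
-/

set_option autoImplicit false

namespace Cfsg.Agent.H465.Gen.RankMax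

open Subgroup

variable {G : Type*} [Group G]

/-- the hypotheses -/
structure Hyp (T : Set G) (N : Subgroup G) : Prop where
  conj : ∀ a ∈ T, ∀ g : G, g * a * g⁻¹ ∈ T
  trC : ∀ a ∈ T, ∀ b ∈ T, ∀ a' ∈ T, ∀ b' ∈ T, a ≠ b → a' ≠ b' → a * b = b * a → a' * b' = b' * a' →
    ∃ g ∈ N, g * a * g⁻¹ = a' ∧ g * b * g⁻¹ = b'
  trN : ∀ a ∈ T, ∀ b ∈ T, ∀ a' ∈ T, ∀ b' ∈ T, a * b ≠ b * a → a' * b' ≠ b' * a' →
    ∃ g ∈ N, g * a * g⁻¹ = a' ∧ g * b * g⁻¹ = b'
  lkC : ∀ a ∈ T, ∀ b ∈ T, a ≠ b → a * b = b * a → ∃ c ∈ T, c * a = a * c ∧ c * b ≠ b * c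
  lkN : ∀ a ∈ T, ∀ b ∈ T, a * b ≠ b * a → ∃ c ∈ T, c ≠ b ∧ c * b = b * c ∧ c * a ≠ a * c

variable {T : Set G} {N M : Subgroup G} {t : G}

theorem comm_conj {g a b : G} : g * a * g⁻¹ * (g * b * g⁻¹) = g * b * g⁻¹ * (g * a * g⁻¹) ↔ a * b = b * a := by
  constructor
  · intro h
    calc a * b = g⁻¹ * (g * a * g⁻¹ * (g * b * g⁻¹)) * g := by group
      _ = g⁻¹ * (g * b * g⁻¹ * (g * a * g⁻¹)) * g := by rw [h]
      _ = b * a := by group
  · intro h
    calc g * a * g⁻¹ * (g * b * g⁻¹) = g * (a * b) * g⁻¹ := by group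
      _ = g * (b * a) * g⁻¹ := by rw [h]
      _ = _ := by group

theorem comm_of_fix {g a : G} (h : g * a * g⁻¹ = a) : g * a = a * g := mul_inv_eq_iff_eq_mul.1 h

/-- **Maximality.** -/
theorem eq_of_moved (h : Hyp T N) (ht : t ∈ T) (hMN : M ≤ N) (hM : ∀ k ∈ N, k * t = t * k → k ∈ M) {m : G} (hm : m ∈ M)
    (hmt : m * t ≠ t * m) : M = N := by
  -- the orbit of `t` under `M`
  have orbC : ∀ u ∈ T, t ≠ u → t * u = u * t → (∃ k ∈ M, k * t * k⁻¹ = u) →
      ∀ u' ∈ T, t ≠ u' → t * u' = u' * t → ∃ k ∈ M, k * t * k⁻¹ = u' := by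
    rintro u hu h1 h2 ⟨k, hk, hku⟩ u' hu' h1' h2'
    obtain ⟨g, hg, hg1, hg2⟩ := h.trC t ht u hu t ht u' hu' h1 h1' h2 h2'
    refine ⟨g * k, M.mul_mem (hM g hg (comm_of_fix hg1)) hk, ?_⟩
    rw [← hg2, ← hku]
    group
  have orbN : ∀ u ∈ T, t * u ≠ u * t → (∃ k ∈ M, k * t * k⁻¹ = u) →
      ∀ u' ∈ T, t * u' ≠ u' * t → ∃ k ∈ M, k * t * k⁻¹ = u' := by
    rintro u hu h2 ⟨k, hk, hku⟩ u' hu' h2'
    obtain ⟨g, hg, hg1, hg2⟩ := h.trN t ht u hu t ht u' hu' h2 h2'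
    refine ⟨g * k, M.mul_mem (hM g hg (comm_of_fix hg1)) hk, ?_⟩
    rw [← hg2, ← hku]
    group
  have hu0 := h.conj t ht m
  have hne : m * t * m⁻¹ ≠ t := fun h1 => hmt (comm_of_fix h1)
  have key : ∀ u ∈ T, ∃ k ∈ M, k * t * k⁻¹ = u := by
    -- elements of the form `m c m⁻¹`
    have hback : ∀ c : G, m * (m⁻¹ * c * m) * m⁻¹ = c := fun c => by group
    have hbT : ∀ c ∈ T, m⁻¹ * c * m ∈ T := by
      intro c hc
      have := h.conj c hc m⁻¹
      rwa [inv_inv] at this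
    have hb1 : ∀ c : G, t * (m⁻¹ * c * m) = (m⁻¹ * c * m) * t ↔ m * t * m⁻¹ * c = c * (m * t * m⁻¹) := by
      intro c
      have h1 := comm_conj (g := m) (a := t) (b := m⁻¹ * c * m)
      rw [hback] at h1
      exact h1.symm
    have htm : ∀ c : G, (∃ k ∈ M, k * t * k⁻¹ = m⁻¹ * c * m) → ∃ k ∈ M, k * t * k⁻¹ = c := by
      rintro c ⟨k, hk, hkc⟩
      refine ⟨m * k, M.mul_mem hm hk, ?_⟩
      rw [← hback c, ← hkc]
      group
    by_cases hc0 : t * (m * t * m⁻¹) = m * t * m⁻¹ * t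
    · -- all commuting ones
      have h1 : ∀ u ∈ T, t * u = u * t → ∃ k ∈ M, k * t * k⁻¹ = u := by
        intro u hu hc
        by_cases htu : t = u
        · exact ⟨1, M.one_mem, by rw [← htu]; group⟩
        · exact orbC _ hu0 (Ne.symm hne) hc0 ⟨m, hm, rfl⟩ u hu htu hc
      obtain ⟨c, hc, hc1, hc2⟩ := h.lkC (m * t * m⁻¹) hu0 t ht hne hc0.symm
      have h2 : ∃ k ∈ M, k * t * k⁻¹ = c := by
        apply htm
        exact h1 _ (hbT c hc) ((hb1 c).2 hc1.symm)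
      intro u hu
      by_cases hc' : t * u = u * t
      · exact h1 u hu hc'
      · exact orbN c hc (fun h3 => hc2 h3.symm) h2 u hu hc'
    · have h1 : ∀ u ∈ T, t * u ≠ u * t → ∃ k ∈ M, k * t * k⁻¹ = u :=
        fun u hu hc => orbN _ hu0 hc0 ⟨m, hm, rfl⟩ u hu hc
      obtain ⟨c, hc, hct, hc1, hc2⟩ := h.lkN (m * t * m⁻¹) hu0 t ht (fun h1 => hc0 h1.symm)
      have h2 : ∃ k ∈ M, k * t * k⁻¹ = c := by
        apply htm
        exact h1 _ (hbT c hc) (fun h3 => hc2 ((hb1 c).1 h3).symm)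
      intro u hu
      by_cases hc' : t * u = u * t
      · by_cases htu : t = u
        · exact ⟨1, M.one_mem, by rw [← htu]; group⟩
        · exact orbC c hc (Ne.symm hct) hc1.symm h2 u hu htu hc'
      · exact h1 u hu hc'
  apply le_antisymm hMN
  intro g hg
  obtain ⟨k, hk, hkg⟩ := key _ (h.conj t ht g)
  have h1 : k⁻¹ * g * t = t * (k⁻¹ * g) := by
    have h2 : g * t = k * t * k⁻¹ * g := by rw [hkg]; group
    calc k⁻¹ * g * t = k⁻¹ * (g * t) := by group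
      _ = k⁻¹ * (k * t * k⁻¹ * g) := by rw [h2]
      _ = t * (k⁻¹ * g) := by group
  have h2 : k⁻¹ * g ∈ M := hM _ (N.mul_mem (N.inv_mem (hMN hk)) hg) h1
  have h3 := M.mul_mem hk h2
  rwa [mul_inv_cancel_left] at h3

/-- `C_N(t)` fixes only `t` -/
theorem eq_of_fix (h : Hyp T N) (ht : t ∈ T) {u : G} (hu : u ∈ T) (hfix : ∀ k ∈ N, k * t = t * k → k * u = u * k)
    (h1 : ∃ a ∈ T, ∃ b ∈ T, a ≠ t ∧ b ≠ t ∧ a * t = t * a ∧ b * t = t * b ∧ a ≠ b) : u = t := by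
  have cf : ∀ {k v : G}, k * v = v * k → k * v * k⁻¹ = v := fun h => mul_inv_eq_iff_eq_mul.2 h
  by_contra hne
  by_cases hc : t * u = u * t
  · obtain ⟨a, ha, b, hb, hat, hbt, hac, hbc, hab⟩ := h1
    apply hab
    have key : ∀ a ∈ T, a ≠ t → a * t = t * a → a = u := by
      intro a ha hat hac
      obtain ⟨k, hk, hk1, hk2⟩ := h.trC t ht u hu t ht a ha (Ne.symm hne) (Ne.symm hat) hc hac.symm
      rw [← hk2]
      exact cf (hfix k hk (comm_of_fix hk1))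
    rw [key a ha hat hac, key b hb hbt hbc]
  · -- `t u t⁻¹` is another one
    have hu' := h.conj u hu t
    have h2 : t * (t * u * t⁻¹) ≠ t * u * t⁻¹ * t := by
      intro h3
      apply hc
      have h4 : t * (t * u * t⁻¹) = t * u := by rw [h3]; group
      exact comm_of_fix (mul_left_cancel h4)
    obtain ⟨k, hk, hk1, hk2⟩ := h.trN t ht u hu t ht _ hu' hc h2
    have h3 := cf (hfix k hk (comm_of_fix hk1))
    rw [h3] at hk2
    exact hc (comm_of_fix hk2.symm)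

end Cfsg.Agent.H465.Gen.RankMax
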