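import Cfsg.Agent.H465.Gen.FiTwentyThree
import Cfsg.Agent.H465.Gen.RankMax
import Cfsg.Agent.H711.FiEven
import Cfsg.Agent.H842.RadTwoB
import Cfsg.Agent.KFacts.FiTF.FrameF

/-!
# S4327, `Fi24'` (helper465)

* `exists_l` : for every `g ≠ 1` in `Fi24` of prime order there is `l` in `Fi24'` with `[g, l]` a product of two distinct
  transpositions;
* `gen_fi24` : the row (eleven conjugates of any automorphism of prime order of `Fi24'` generate `⟨x, Inn⟩`).
-/

set_option autoImplicit false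
set_option linter.constructorNameAsVariable false

namespace Cfsg.Agent.H465.Gen.FiTwentyFour

open Subgroup Cfsg Cfsg.Spor Cfsg.Agent.H147.Gen Cfsg.Agent.R08 Cfsg.Agent.R08.FiTwentyFour
open Cfsg.Agent.Fischer.Fi24Class (gen emb)

universe u

/-! ### the generators -/

theorem cox : SporRec.Fi23Rel.IsCox (fun v : Fi23.Gen => gen (emb v)) where
  inv v := Fischer.Fi24Class.gen_sq _
  comm a b h := by
    by_cases hab : a = b
    · rw [hab]
    · exact Fischer.Fi24Class.gen_comm _ _ (by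
        revert h hab
        cases a <;> cases b <;> decide)
  braid a b h := Fischer.Fi24Class.gen_braid _ _ (by
    revert h
    cases a <;> cases b <;> decide)

theorem ab : gen (emb .a) ≠ gen (emb .b) := by
  intro h
  apply FiTwentyThree.ab
  apply facts.phi_injective
  rw [facts.phi_gen, facts.phi_gen, h]

theorem ncomm_al : ¬ gen .a * gen .b = gen .b * gen .a := fun h =>
  ab (Seeds.eq_of_comm_braid (Fischer.Fi24Class.gen_sq _) (Fischer.Fi24Class.gen_sq _) h
    (Fischer.Fi24Class.gen_braid _ _ (by decide)))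

theorem ncomm_ak : ¬ gen .a * gen .k = gen .k * gen .a := by
  intro h
  have h1 : gen .a = gen .k := Seeds.eq_of_comm_braid (Fischer.Fi24Class.gen_sq _) (Fischer.Fi24Class.gen_sq _) h
    (Fischer.Fi24Class.gen_braid _ _ (by decide))
  apply ncomm_al
  rw [h1]
  exact Fischer.Fi24Class.gen_comm _ _ (by decide)

/-! ### transitivity -/

theorem index_two {a b : Fi24} (ha : a ∉ commutator Fi24) (hb : b ∉ commutator Fi24) : a * b ∈ commutator Fi24 :=
  (Subgroup.mul_mem_iff_of_index_two FiTwentyFour.index_commutator).2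
    ⟨fun h => absurd h ha, fun h => absurd h hb⟩

theorem trN0 {a b a' b' : Fi24} (ha : a ∈ L) (hb : b ∈ L) (ha' : a' ∈ L) (hb' : b' ∈ L) (h : a * b ≠ b * a)
    (h' : a' * b' ≠ b' * a') : ∃ g : Fi24, g * a * g⁻¹ = a' ∧ g * b * g⁻¹ = b' := by
  obtain ⟨R, -, -, hR⟩ := facts.exists_rank3
  rw [← hR] at ha hb ha' hb'
  obtain ⟨x, rfl⟩ := ha
  obtain ⟨y, rfl⟩ := hb
  obtain ⟨x', rfl⟩ := ha'
  obtain ⟨y', rfl⟩ := hb'
  obtain ⟨g, rfl, rfl⟩ := transN R (x := x) (y := y) (x' := x') (y' := y') h h'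
  exact ⟨g, (R.map_smul g x).symm, (R.map_smul g y).symm⟩

theorem trN {a b a' b' : Fi24} (ha : a ∈ L) (hb : b ∈ L) (ha' : a' ∈ L) (hb' : b' ∈ L) (h : a * b ≠ b * a)
    (h' : a' * b' ≠ b' * a') : ∃ g ∈ commutator Fi24, g * a * g⁻¹ = a' ∧ g * b * g⁻¹ = b' := by
  obtain ⟨g, rfl, rfl⟩ := trN0 ha hb ha' hb' h h'
  -- a transposition commuting with `a` and `b`
  obtain ⟨d, hd, hda, hdb⟩ : ∃ d ∈ L, d * a = a * d ∧ d * b = b * d := by
    obtain ⟨k, hk1, hk2⟩ := trN0 (gen_mem_L .a) (gen_mem_L .b) ha hb ncomm_al h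
    refine ⟨k * gen .l * k⁻¹, FiTwentyFour.conj (gen_mem_L .l) k, ?_, ?_⟩
    · rw [← hk1, RankMax.comm_conj]
      exact Fischer.Fi24Class.gen_comm _ _ (by decide)
    · rw [← hk2, RankMax.comm_conj]
      exact Fischer.Fi24Class.gen_comm _ _ (by decide)
  by_cases hg : g ∈ commutator Fi24
  · exact ⟨g, hg, rfl, rfl⟩
  · refine ⟨g * d, index_two hg (odd hd), ?_, ?_⟩
    · calc g * d * a * (g * d)⁻¹ = g * (d * a) * d⁻¹ * g⁻¹ := by group
        _ = g * a * g⁻¹ := by rw [hda]; group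
    · calc g * d * b * (g * d)⁻¹ = g * (d * b) * d⁻¹ * g⁻¹ := by group
        _ = g * b * g⁻¹ := by rw [hdb]; group

theorem hyp : RankMax.Hyp L (commutator Fi24) where
  conj a ha g := FiTwentyFour.conj ha g
  trC a ha b hb a' ha' b' hb' hne hne' h h' := FiTwentyFour.trans2 ha hb ha' hb' hne h hne' h'
  trN a ha b hb a' ha' b' hb' h h' := trN ha hb ha' hb' h h'
  lkC a ha b hb hne h := by
    -- `l, a, b`
    have h1 : gen .l ≠ gen .a := by
      intro h1
      apply ncomm_ak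
      rw [← h1]
      exact absurd (show gen .a * gen .b = gen .b * gen .a from by
        rw [← h1]
        exact Fischer.Fi24Class.gen_comm _ _ (by decide)) ncomm_al
    obtain ⟨g, -, hg1, hg2⟩ := FiTwentyFour.trans2 (gen_mem_L .l) (gen_mem_L .a) ha hb h1
      (Fischer.Fi24Class.gen_comm _ _ (by decide)) hne h
    refine ⟨g * gen .b * g⁻¹, FiTwentyFour.conj (gen_mem_L .b) g, ?_, ?_⟩
    · rw [← hg1, RankMax.comm_conj]
      exact Fischer.Fi24Class.gen_comm _ _ (by decide)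
    · intro h2
      rw [← hg2, RankMax.comm_conj] at h2
      exact ncomm_al h2.symm
  lkN a ha b hb h := by
    -- `a, k, b`
    obtain ⟨g, hg1, hg2⟩ := trN0 (gen_mem_L .a) (gen_mem_L .k) ha hb ncomm_ak h
    refine ⟨g * gen .b * g⁻¹, FiTwentyFour.conj (gen_mem_L .b) g, ?_, ?_, ?_⟩
    · intro h2
      rw [← hg2] at h2
      have h3 : gen .b = gen .k := by
        calc gen .b = g⁻¹ * (g * gen .b * g⁻¹) * g := by group
          _ = g⁻¹ * (g * gen .k * g⁻¹) * g := by rw [h2]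
          _ = gen .k := by group
      have h4 : gen .l * gen .k = gen .k * gen .l := by
        rw [← h3]
        exact Fischer.Fi24Class.gen_comm _ _ (by decide)
      exact Fischer.Fi24Class.k_ncomm_l facts.card_ne h4
    · rw [← hg2, RankMax.comm_conj]
      exact Fischer.Fi24Class.gen_comm _ _ (by decide)
    · intro h2
      rw [← hg1, RankMax.comm_conj] at h2
      exact ncomm_al h2.symm

/-! ### the commutator -/

theorem exists_moved {g : Fi24} (hg : g ≠ 1) : ∃ d ∈ L, g * d * g⁻¹ ≠ d := by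
  by_contra h
  push Not at h
  exact hg (KFacts.FiTF.Pts.eq_one_of_comm_L fun d hd => mul_inv_eq_iff_eq_mul.1 (h d hd))

/-- **The commutator**: `[g, l]` is a product of two distinct transpositions. -/
theorem exists_l {g : Fi24} {p : ℕ} (hp : p.Prime) (hg : orderOf g = p) :
    ∃ l ∈ commutator Fi24, ∃ u ∈ L, ∃ w ∈ L, u ≠ w ∧ g * l * g⁻¹ * l⁻¹ = u * w := by
  have hg1 : g ≠ 1 := by
    rintro rfl
    rw [orderOf_one] at hg
    exact hp.one_lt.ne hg
  by_cases hA : ∃ τ : Fi24, τ ∉ commutator Fi24 ∧ g * τ = τ * g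
  · obtain ⟨τ, hτ, hgτ⟩ := hA
    obtain ⟨d, hd, hgd⟩ := exists_moved hg1
    refine ⟨d * τ, index_two (odd hd) hτ, _, FiTwentyFour.conj hd g, d, hd, hgd, ?_⟩
    calc g * (d * τ) * g⁻¹ * (d * τ)⁻¹ = g * d * g⁻¹ * (g * τ) * g⁻¹ * τ⁻¹ * d⁻¹ := by group
      _ = g * d * g⁻¹ * d⁻¹ := by rw [hgτ]; group
      _ = g * d * g⁻¹ * d := by rw [inv_eq_of_mul_eq_one_left (FiTwentyFour.sq hd)]
  · push Not at hA
    -- odd order
    have hp2 : p ≠ 2 := by
      intro h2
      have h3 : g * g = 1 := by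
        rw [← pow_two, ← h2, ← hg, pow_orderOf_eq_one]
      obtain ⟨f, hf, hfc⟩ := H842.RadTwo.exists_comm h3
      exact hA f (odd hf) hfc.eq
    have hodd : Odd p := hp.odd_of_ne_two hp2
    have := FiTwentyFour.finite_Fi24
    obtain ⟨R, -, -, hR⟩ := facts.exists_rank3
    have hfin : Finite (Fi24 ⧸ Cfsg.Agent.Fischer.Fi24RepOrb.H) := inferInstance
    have hL : ∀ x, R.t x ∈ L := fun x => hR ▸ ⟨x, rfl⟩
    obtain ⟨z, hz⟩ := LThreeM.SrgFix.count R (H711.FiEven.nb_card R hR) (H711.FiEven.cn_card R hR)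
      (H711.FiEven.cb_card R hR) (s := -81) (by norm_num) (by norm_num) (g := g) (n := orderOf g)
      (by rw [hg]; exact hp.pos) (pow_orderOf_eq_one g)
    have hF : ({x | g • x = x} : Set (Fi24 ⧸ Cfsg.Agent.Fischer.Fi24RepOrb.H)) = ∅ := by
      rw [Set.eq_empty_iff_forall_notMem]
      intro x hx
      exact hA (R.t x) (odd (hL x)) ((R.smul_eq_iff_comm g x).1 hx)
    have hM : ({x | LThreeM.SrgFix.Adj R x (g • x)} : Set (Fi24 ⧸ Cfsg.Agent.Fischer.Fi24RepOrb.H)).Nonempty := by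
      rw [Set.nonempty_iff_ne_empty]
      intro hM
      rw [hF, hM, Set.ncard_empty] at hz
      push_cast at hz
      omega
    obtain ⟨x, hx1, hx2⟩ := hM
    have e1 : R.t (g • x) = g * R.t x * g⁻¹ := R.map_smul g x
    have e2 : R.t (g • g • x) = g * R.t (g • x) * g⁻¹ := R.map_smul g _
    have hc2 : R.Com (g • x) (g • g • x) := (R.com_smul g _ _).2 hx2
    refine ⟨R.t x * R.t (g • x), even (hL _) (hL _), R.t (g • g • x), hL _, R.t x, hL _, ?_, ?_⟩
    · intro h1
      have h2 : g • g • x = x := R.t_inj.1 h1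
      have h3 : (g * g) * R.t x = R.t x * (g * g) := (R.smul_eq_iff_comm _ _).1 (by rw [mul_smul]; exact h2)
      obtain ⟨m, hm⟩ := hodd
      have h4 : Commute ((g * g) ^ (m + 1)) (R.t x) := Commute.pow_left h3 _
      have h5 : (g * g) ^ (m + 1) = g := by
        rw [← pow_two, ← pow_mul, show 2 * (m + 1) = (2 * m + 1) + 1 by ring, pow_succ, ← hm, ← hg, pow_orderOf_eq_one,
          one_mul]
      rw [h5] at h4
      exact hA _ (odd (hL x)) h4.eq
    · have h1 : g * (R.t x * R.t (g • x)) * g⁻¹ = R.t (g • x) * R.t (g • g • x) := by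
        rw [e2, e1]; group
      rw [h1, mul_inv_rev, R.t_inv, R.t_inv]
      have h2 : R.t (g • x) * R.t (g • g • x) = R.t (g • g • x) * R.t (g • x) := hc2
      rw [h2]
      calc R.t (g • g • x) * R.t (g • x) * (R.t (g • x) * R.t x) = R.t (g • g • x) * (R.t (g • x) * R.t (g • x)) * R.t x := by
            group
        _ = R.t (g • g • x) * R.t x := by rw [R.sq', mul_one]

/-! ### `Fi23` in `Fi24'` -/

/-- the embedding of `Fi23` -/
noncomputable def phi' : Fi23 →* Spor.Fi24' :=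
  facts.phi.codRestrict (commutator Fi24) fun k => mem_commutator_iff.2 (facts.sgn_phi k)

theorem coe_phi' (k : Fi23) : ((phi' k : Spor.Fi24') : Fi24) = facts.phi k := rfl

theorem coe_phi'_mul (v v' : Fi23.Gen) : ((phi' (Fischer.Fi23Hom.gen v * Fischer.Fi23Hom.gen v') : Spor.Fi24') : Fi24) =
    gen (emb v) * gen (emb v') := by
  rw [coe_phi', map_mul, facts.phi_gen, facts.phi_gen]
  exact Fischer.Fi24Class.img_mul v v'

theorem mem_range_phi' (k : Spor.Fi24') : k ∈ phi'.range ↔ (k : Fi24) * gen .l = gen .l * k := by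
  constructor
  · rintro ⟨y, rfl⟩
    exact facts.phi_comm y
  · intro h
    obtain ⟨y, hy⟩ := (facts.mem_range_iff (k : Fi24)).2 ⟨h, mem_commutator_iff.1 k.2⟩
    exact ⟨y, Subtype.ext hy⟩

theorem closure_seed {v v' : Fin 5 → Fi23.Gen}
    (h : closure (Set.range fun i => Fischer.Fi23Hom.gen (v i) * Fischer.Fi23Hom.gen (v' i)) = ⊤) :
    closure (Set.range fun i => phi' (Fischer.Fi23Hom.gen (v i) * Fischer.Fi23Hom.gen (v' i))) = phi'.range := by
  have h1 := congrArg (Subgroup.map phi') h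
  rw [MonoidHom.map_closure, ← Set.range_comp, ← MonoidHom.range_eq_map] at h1
  exact h1

/-- seeds for a product of two distinct transpositions -/
theorem exists_seeds {y : Spor.Fi24'} {u w : Fi24} (hu : u ∈ L) (hw : w ∈ L) (hne : u ≠ w) (hy : (y : Fi24) = u * w) :
    ∃ seed : Fin 5 → Spor.Fi24', closure (Set.range seed) = phi'.range ∧ ∀ i, ∃ s : Spor.Fi24', s * y * s⁻¹ = seed i := by
  by_cases hc : u * w = w * u
  · refine ⟨_, closure_seed FiTwentyThree.top_two, fun i => ?_⟩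
    obtain ⟨g, hg, hg1, hg2⟩ := hyp.trC u hu w hw _ (gen_mem_L (emb (Seeds.U' i))) _ (gen_mem_L (emb (Seeds.W' i))) hne
      (Seeds.ne_UW' cox ab i) hc (Seeds.comm_UW' cox i)
    refine ⟨⟨g, hg⟩, Subtype.ext ?_⟩
    rw [coe_phi'_mul]
    show g * (y : Fi24) * g⁻¹ = _
    rw [hy, ← hg1, ← hg2]
    group
  · refine ⟨_, closure_seed FiTwentyThree.top_one, fun i => ?_⟩
    obtain ⟨g, hg, hg1, hg2⟩ := hyp.trN u hu w hw _ (gen_mem_L (emb (Seeds.U i))) _ (gen_mem_L (emb (Seeds.W i))) hc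
      (Seeds.ncomm_UW cox ab i)
    refine ⟨⟨g, hg⟩, Subtype.ext ?_⟩
    rw [coe_phi'_mul]
    show g * (y : Fi24) * g⁻¹ = _
    rw [hy, ← hg1, ← hg2]
    group

/-- **The row for the model.** -/
theorem gen11 : Gen11 Spor.Fi24' := by
  intro x hx
  obtain ⟨g, hg⟩ := KFacts.FiTF.exists_conj x
  have hpow : ∀ (n : ℕ) (k : Spor.Fi24'), (((x ^ n) k : Spor.Fi24') : Fi24) = g ^ n * k * (g ^ n)⁻¹ := by
    intro n
    induction n with
    | zero => intro k; simp
    | succ n ih =>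
      intro k
      rw [pow_succ, MulAut.mul_apply, ih, hg, pow_succ]
      group
  have hgp : orderOf g = orderOf x := by
    have : Fact (orderOf x).Prime := ⟨hx⟩
    apply orderOf_eq_prime
    · apply H842.RadTwo.eq_one_of_comm
      intro k hk
      have h1 := hpow (orderOf x) ⟨k, hk⟩
      rw [pow_orderOf_eq_one] at h1
      exact (mul_inv_eq_iff_eq_mul.1 h1.symm)
    · rintro rfl
      have h1 : x = 1 := by
        ext k
        rw [hg]
        simp
      rw [h1, orderOf_one] at hx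
      exact Nat.not_prime_one hx
  have hg1 : g ≠ 1 := by
    rintro rfl
    rw [orderOf_one] at hgp
    rw [← hgp] at hx
    exact Nat.not_prime_one hx
  obtain ⟨l, hl, u, hu, w, hw, huw, he⟩ := exists_l hx hgp
  obtain ⟨seed, hseed, hs⟩ := exists_seeds (y := x ⟨l, hl⟩ * (⟨l, hl⟩ : Spor.Fi24')⁻¹) hu hw huw (by
    rw [← he]
    show (x ⟨l, hl⟩ : Fi24) * l⁻¹ = _
    rw [hg])
  obtain ⟨f, hf⟩ := exists_f seed hs
  rw [hseed] at hf
  -- a conjugate moving `t = gen .l`
  obtain ⟨r, hr⟩ : ∃ r : Spor.Fi24', ¬ ((r : Fi24) * g * (r : Fi24)⁻¹) * gen .l = gen .l * ((r : Fi24) * g * (r : Fi24)⁻¹) := by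
    by_contra hcon
    push Not at hcon
    obtain ⟨d, hd, hgd⟩ := exists_moved hg1
    obtain ⟨k, hk, hkd⟩ : ∃ k ∈ commutator Fi24, k * d * k⁻¹ = gen .l := by
      obtain ⟨e, he, hed, hec, -⟩ : ∃ e ∈ L, e ≠ d ∧ e * d = d * e ∧ True := by
        have h1 : 0 < {c | c ∈ L ∧ c ≠ d ∧ Commute c d}.ncard := by
          rw [ncard_commuting hd]; norm_num
        obtain ⟨c, hc, hcd, hcc⟩ := (Set.ncard_pos (Set.finite_of_ncard_pos h1)).1 h1
        exact ⟨c, hc, hcd, hcc.eq, trivial⟩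
      obtain ⟨k, hk, hk1, -⟩ := hyp.trC d hd e he (gen .l) (gen_mem_L .l) (gen .a) (gen_mem_L .a) (Ne.symm hed)
        (by
          intro h1
          apply ncomm_al
          rw [← h1]
          exact Fischer.Fi24Class.gen_comm _ _ (by decide)) hec.symm (Fischer.Fi24Class.gen_comm _ _ (by decide))
      exact ⟨k, hk, hk1⟩
    apply hgd
    have h1 := hcon ⟨k, hk⟩
    rw [← hkd] at h1
    have h2 : k * g * k⁻¹ * (k * d * k⁻¹) = k * d * k⁻¹ * (k * g * k⁻¹) := h1
    rw [RankMax.comm_conj] at h2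
    rw [h2]
    group
  let f' : Fin (5 + 5 + 1) → Spor.Fi24' := Fin.append f (fun _ => r)
  set H := closure (Set.range fun i => MulAut.conj (f' i) * x * (MulAut.conj (f' i))⁻¹) with hH
  have hf' : ∀ k ∈ phi'.range, MulAut.conj k ∈ H := by
    intro k hk
    have h1 : MulAut.conj k ∈ closure (Set.range fun i => MulAut.conj (f i) * x * (MulAut.conj (f i))⁻¹) :=
      hf ⟨k, hk, rfl⟩
    refine closure_mono ?_ h1
    rintro _ ⟨i, rfl⟩
    exact ⟨Fin.castAdd 1 i, by simp only [f', Fin.append_left]⟩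
  have hz : MulAut.conj r * x * (MulAut.conj r)⁻¹ ∈ H :=
    subset_closure ⟨Fin.natAdd (5 + 5) 0, by simp only [f', Fin.append_right]⟩
  have hzk : ∀ k : Spor.Fi24', (((MulAut.conj r * x * (MulAut.conj r)⁻¹) k : Spor.Fi24') : Fi24) =
      (r : Fi24) * g * (r : Fi24)⁻¹ * k * ((r : Fi24) * g * (r : Fi24)⁻¹)⁻¹ := by
    intro k
    have h1 : (MulAut.conj r * x * (MulAut.conj r)⁻¹) k = r * x (r⁻¹ * k * r) * r⁻¹ := by
      simp only [MulAut.mul_apply, MulAut.conj_apply, ← map_inv, inv_inv]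
    rw [h1]
    show (r : Fi24) * (x (r⁻¹ * k * r) : Fi24) * (r : Fi24)⁻¹ = _
    rw [hg]
    show (r : Fi24) * (g * ((r : Fi24)⁻¹ * k * r) * g⁻¹) * (r : Fi24)⁻¹ = _
    group
  have ht := gen_mem_L .l
  have hM : (H.comap (MulAut.conj : Spor.Fi24' →* MulAut Spor.Fi24')).map (commutator Fi24).subtype = commutator Fi24 := by
    obtain ⟨m, hm, hmt⟩ : ∃ m : Spor.Fi24', MulAut.conj m ∈ H ∧ (m : Fi24) * gen .l ≠ gen .l * m := by
      by_contra hcon
      push Not at hcon
      apply hr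
      set z := (r : Fi24) * g * (r : Fi24)⁻¹ with hzdef
      have h1 : z⁻¹ * gen .l * z⁻¹⁻¹ = gen .l := by
        refine RankMax.eq_of_fix hyp ht (FiTwentyFour.conj ht z⁻¹) ?_ ?_
        · intro k hk hkt
          have h2 : MulAut.conj (⟨k, hk⟩ : Spor.Fi24') ∈ H := hf' _ ((mem_range_phi' _).2 hkt)
          have h3 := hcon ((MulAut.conj r * x * (MulAut.conj r)⁻¹) ⟨k, hk⟩) (by
            rw [← aut_conj]
            exact H.mul_mem (H.mul_mem hz h2) (H.inv_mem hz))
          rw [hzk] at h3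
          have h4 : z * k * z⁻¹ * gen .l = gen .l * (z * k * z⁻¹) := h3
          have h5 : z * k * z⁻¹ * (z * (z⁻¹ * gen .l * z) * z⁻¹) = z * (z⁻¹ * gen .l * z) * z⁻¹ * (z * k * z⁻¹) := by
            have h6 : z * (z⁻¹ * gen .l * z) * z⁻¹ = gen .l := by group
            rw [h6, h4]
          rw [RankMax.comm_conj] at h5
          rw [inv_inv]
          exact h5
        · refine ⟨gen .a, gen_mem_L _, gen .b, gen_mem_L _, ?_, ?_, Fischer.Fi24Class.gen_comm _ _ (by decide),
            Fischer.Fi24Class.gen_comm _ _ (by decide), ?_⟩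
          · intro h1
            apply ncomm_al
            rw [h1]
            exact Fischer.Fi24Class.gen_comm _ _ (by decide)
          · intro h1
            apply ncomm_al
            rw [h1]
            exact Fischer.Fi24Class.gen_comm _ _ (by decide)
          · exact ab
      rw [inv_inv] at h1
      calc z * gen .l = z * (z⁻¹ * gen .l * z) := by rw [h1]
        _ = gen .l * z := by group
    refine RankMax.eq_of_moved hyp ht (map_subtype_le _) ?_ (m := (m : Fi24)) ⟨m, hm, rfl⟩ hmt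
    intro k hk hkt
    exact ⟨⟨k, hk⟩, hf' _ ((mem_range_phi' _).2 hkt), rfl⟩
  refine ca_of_range_le (by norm_num) f' ?_
  rintro _ ⟨k, rfl⟩
  have h1 : (k : Fi24) ∈ (H.comap (MulAut.conj : Spor.Fi24' →* MulAut Spor.Fi24')).map (commutator Fi24).subtype := by
    rw [hM]; exact k.2
  obtain ⟨k', hk', hkk⟩ := h1
  have h2 : k' = k := Subtype.ext hkk
  rw [← h2]
  exact hk'

/-- **The row `Fi24'`** -/
theorem gen_fi24 {K : Type u} [Group K] (h : Spor.IsoFi24' K) : Gen11 K := gen11.congr h.some.symm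

end Cfsg.Agent.H465.Gen.FiTwentyFour
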