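import Cfsg.Agent.H465.Gen.BAbs
import Cfsg.Agent.BM.StageWSurj
import Cfsg.Agent.BM.StageWConj

/-!
# The transpositions of the Baby Monster: the model (helper465)

`ts : BAbs.TS (cX M) τ` for the group `M.G` of the concrete model; `disp` : every `g ≠ 1` of `M.G` displaces some
transposition with colour 1, 3 or 4; `exists_pt` : the generator `StageW.x t` is `τ y`.
-/

set_option autoImplicit false

namespace Cfsg.Agent.H465.Gen.BDisp

open Cfsg.Agent.BabyM.Inst Cfsg.Agent.BabyM.Model Cfsg.Agent.H995.BSch Cfsg.Agent.H995.BSchVal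

/-- the base transposition -/
noncomputable def t₀ : M.G := ⟨M.t₀, BabyM.Instance.all.C_le_G BabyM.Instance.all.t₀_C⟩

/-- the transposition of a point -/
noncomputable def τ (x : X M) : M.G := (Quotient.out x : M.G) * t₀ * (Quotient.out x : M.G)⁻¹

theorem mem_HH_iff (h : M.G) : h ∈ HH M ↔ h * t₀ = t₀ * h := by
  rw [HH_eq BabyM.Instance.all BabyM.Instance.tr, Cfsg.Agent.MonsterX.SimpleCrit.mem_cent]
  rfl

theorem τ_mk (g : M.G) : τ (QuotientGroup.mk g) = g * t₀ * g⁻¹ := by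
  obtain ⟨h, hh⟩ := QuotientGroup.mk_out_eq_mul (HH M) g
  have h1 := (mem_HH_iff h).1 h.2
  unfold τ
  rw [hh, mul_inv_rev]
  calc g * (h : M.G) * t₀ * ((h : M.G)⁻¹ * g⁻¹) = g * ((h : M.G) * t₀) * (h : M.G)⁻¹ * g⁻¹ := by group
    _ = g * t₀ * g⁻¹ := by rw [h1]; group

theorem mk_eq_iff (g k : M.G) : (QuotientGroup.mk g : X M) = QuotientGroup.mk k ↔ g * t₀ * g⁻¹ = k * t₀ * k⁻¹ := by
  rw [QuotientGroup.eq, mem_HH_iff]
  constructor
  · intro h
    calc g * t₀ * g⁻¹ = g * (t₀ * (g⁻¹ * k)) * k⁻¹ := by group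
      _ = k * t₀ * k⁻¹ := by rw [← h]; group
  · intro h
    calc g⁻¹ * k * t₀ = g⁻¹ * (k * t₀ * k⁻¹) * k := by group
      _ = t₀ * (g⁻¹ * k) := by rw [← h]; group

theorem smul_mk (g k : M.G) : g • (QuotientGroup.mk k : X M) = QuotientGroup.mk (g * k) := rfl

theorem τ_smul (g : M.G) (x : X M) : τ (g • x) = g * τ x * g⁻¹ := by
  obtain ⟨k, rfl⟩ := exists_mk x
  rw [smul_mk, τ_mk, τ_mk]
  group

/-- the generators -/
theorem exists_pt (t : Cfsg.Spor.BabyMonster.Gen) : ∃ y : X M, BM.StageW.x t = τ y := by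
  obtain ⟨g, hg⟩ := BM.StageW.exists_conj BabyM.Instance.all BabyM.Instance.ok t
  exact ⟨QuotientGroup.mk g, by rw [τ_mk]; exact hg⟩

theorem t₀_sq : t₀ * t₀ = 1 := by
  obtain ⟨g, hg⟩ := BM.StageW.exists_conj BabyM.Instance.all BabyM.Instance.ok .t1
  have h1 := BM.StageW.sq BabyM.Instance.all BabyM.Instance.ok .t1
  rw [hg] at h1
  have h2 : g * (t₀ * t₀) * g⁻¹ = 1 := by
    rw [← h1]
    show g * (t₀ * t₀) * g⁻¹ = g * t₀ * g⁻¹ * (g * t₀ * g⁻¹)
    group
  have h3 := congrArg (fun z => g⁻¹ * z * g) h2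
  simpa [mul_assoc] using h3

theorem center_eq_one (g : M.G) (h : ∀ k, g * k = k * g) : g = 1 := by
  have := BabyM.Instance.all.simple
  have hg : g ∈ Subgroup.center M.G := Subgroup.mem_center_iff.2 fun k => (h k).symm
  rcases (inferInstance : (Subgroup.center M.G).Normal).eq_bot_or_eq_top with h1 | h1
  · rw [h1] at hg
    exact Subgroup.mem_bot.1 hg
  · exfalso
    have h2 : Subgroup.centralizer ({t₀} : Set M.G) = ⊤ := by
      rw [eq_top_iff]
      intro k _
      rw [Subgroup.mem_centralizer_singleton_iff]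
      have h3 : k ∈ Subgroup.center M.G := by rw [h1]; trivial
      exact (Subgroup.mem_center_iff.1 h3 t₀).symm
    have h3 := BabyM.Instance.all.card_cent BabyM.Instance.tr
    rw [show (⟨M.t₀, BabyM.Instance.all.C_le_G BabyM.Instance.all.t₀_C⟩ : M.G) = t₀ from rfl, h2,
      Subgroup.card_top, BabyM.Instance.all.card_G] at h3
    omega

/-- **The scheme and the transpositions.** -/
theorem ts : BAbs.TS (cX M) τ where
  finG := BabyM.Instance.all.finite_G
  finX := by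
    have := BabyM.Instance.all.finite_G
    infer_instance
  col := sch.isCol BabyM.Instance.all BabyM.Instance.tr
  smul := τ_smul
  sq x := by
    obtain ⟨k, rfl⟩ := exists_mk x
    rw [τ_mk]
    calc k * t₀ * k⁻¹ * (k * t₀ * k⁻¹) = k * (t₀ * t₀) * k⁻¹ := by group
      _ = 1 := by rw [t₀_sq]; group
  fix g x h := by
    obtain ⟨k, rfl⟩ := exists_mk x
    rw [smul_mk, mk_eq_iff]
    rw [τ_mk] at h
    calc g * k * t₀ * (g * k)⁻¹ = (g * (k * t₀ * k⁻¹)) * g⁻¹ := by group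
      _ = k * t₀ * k⁻¹ := by rw [h]; group
  inj x y h := by
    obtain ⟨k, rfl⟩ := exists_mk x
    obtain ⟨l, rfl⟩ := exists_mk y
    rw [τ_mk, τ_mk] at h
    exact (mk_eq_iff k l).2 h
  gen := by
    rw [eq_top_iff, ← BM.StageWSurj.closure_x BabyM.Instance.all BabyM.Instance.ok]
    refine Subgroup.closure_mono ?_
    rintro _ ⟨t, rfl⟩
    obtain ⟨y, hy⟩ := exists_pt t
    exact ⟨y, hy.symm⟩
  center g h := center_eq_one g h
  card := BabyM.Instance.all.card_G
  cardX := card_X BabyM.Instance.all BabyM.Instance.tr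
  num := ⟨QuotientGroup.mk 1, H995.IMB.exists_z⟩

/-- **Displacements.** -/
theorem disp {g : M.G} (hg : g ≠ 1) : ∃ y, cX M (g • y) y = 1 ∨ cX M (g • y) y = 3 ∨ cX M (g • y) y = 4 :=
  ts.disp hg

end Cfsg.Agent.H465.Gen.BDisp
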