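import Cfsg.Agent.H465.Gen.ThreeT
import Cfsg.Agent.SporRec.Fi23Rel

/-!
# S4327, `Fi23`: five products of two transpositions generate (helper465)

`x` satisfies the Coxeter relations of the diagram of `Fi23` and generates a simple group `G`:
* `closure_one` : `ab, cd, ef, gj, hi` generate `G`;
* `closure_two` : `ae, bh, cg, di, fj` generate `G`.
-/

set_option autoImplicit false
set_option linter.constructorNameAsVariable false

namespace Cfsg.Agent.H465.Gen.Seeds

open Subgroup Cfsg.Agent.SporRec.Fi23Rel Cfsg.Agent.H465.Gen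

variable {G : Type*} [Group G] {x : Gen → G}

theorem eq_of_comm_braid {u v : G} (hu : u * u = 1) (hv : v * v = 1) (hc : u * v = v * u)
    (hb : u * v * u = v * u * v) : u = v := by
  have h1 : u * v * u = v := by rw [hc, mul_assoc, hu, mul_one]
  have h2 : v * u * v = u := by rw [← hc, mul_assoc, hv, mul_one]
  rw [← h2, ← hb, h1]

theorem col (h : IsCox x) {p q v : Gen} (h1 : adj v p = true) (h2 : adj v q = false) (e : x p = x q) :
    x v = x p := by
  refine eq_of_comm_braid (h.inv v) (h.inv p) ?_ (h.braid v p h1)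
  rw [e]
  exact h.comm v q h2

section Ne

variable (h : IsCox x) (h0 : x .a ≠ x .b)
include h h0

theorem ne_bc : x .b ≠ x .c := fun e => h0 (col h (v := .a) rfl rfl e)
theorem ne_cd : x .c ≠ x .d := fun e => ne_bc h h0 (col h (v := .b) rfl rfl e)
theorem ne_de : x .d ≠ x .e := fun e => ne_cd h h0 (col h (v := .c) rfl rfl e)
theorem ne_ef : x .e ≠ x .f := fun e => ne_de h h0 (col h (v := .d) rfl rfl e)
theorem ne_fg : x .f ≠ x .g := fun e => ne_ef h h0 (col h (v := .e) rfl rfl e)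
theorem ne_gj : x .g ≠ x .j := fun e => ne_fg h h0 (col h (v := .f) rfl rfl e)
theorem ne_dh : x .d ≠ x .h := fun e => ne_cd h h0 (col h (v := .c) rfl rfl e)
theorem ne_hi : x .h ≠ x .i := fun e => ne_dh h h0 (col h (v := .d) rfl rfl e)
theorem ne_ae : x .a ≠ x .e := fun e => ne_de h h0 (col h (v := .d) rfl rfl e.symm)
theorem ne_bh : x .b ≠ x .h := fun e => ne_hi h h0 (col h (v := .i) rfl rfl e.symm).symm
theorem ne_cg : x .c ≠ x .g := fun e => ne_gj h h0 (col h (v := .j) rfl rfl e.symm).symm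
theorem ne_di : x .d ≠ x .i := fun e => ne_cd h h0 (col h (v := .c) rfl rfl e)
theorem ne_fj : x .f ≠ x .j := fun e => ne_ef h h0 (col h (v := .e) rfl rfl e)

end Ne

theorem ne_ab (h : IsCox x) (hg : closure (Set.range x) = ⊤) (hna : ∃ u w : G, u * w ≠ w * u) : x .a ≠ x .b := by
  intro e
  have hc : x .c = x .b := col h (q := .a) rfl rfl e.symm
  have hd : x .d = x .c := col h (q := .b) rfl rfl hc
  have he : x .e = x .d := col h (q := .c) rfl rfl hd
  have hf : x .f = x .e := col h (q := .d) rfl rfl he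
  have hgg : x .g = x .f := col h (q := .e) rfl rfl hf
  have hj : x .j = x .g := col h (q := .f) rfl rfl hgg
  have hh : x .h = x .d := col h (q := .c) rfl rfl hd
  have hi : x .i = x .h := col h (q := .d) rfl rfl hh
  have h1 : zpowers (x .b) = ⊤ := by
    rw [eq_top_iff, ← hg, closure_le]
    rintro _ ⟨v, rfl⟩
    have h2 : x v = x .b := by
      cases v
      · exact e
      · rfl
      all_goals simp only [hi, hh, hj, hgg, hf, he, hd, hc]
    rw [SetLike.mem_coe, h2]
    exact mem_zpowers _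
  obtain ⟨u, w, huw⟩ := hna
  apply huw
  obtain ⟨m, rfl⟩ := mem_zpowers_iff.1 (show u ∈ zpowers (x .b) from h1 ▸ mem_top u)
  obtain ⟨n, rfl⟩ := mem_zpowers_iff.1 (show w ∈ zpowers (x .b) from h1 ▸ mem_top w)
  rw [← zpow_add, ← zpow_add, add_comm]

/-- the seeds of the first type -/
def U : Fin 5 → Gen := ![.a, .c, .e, .g, .h]
/-- the seeds of the first type -/
def W : Fin 5 → Gen := ![.b, .d, .f, .j, .i]
/-- the seeds of the second type -/
def U' : Fin 5 → Gen := ![.a, .b, .c, .d, .f]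
/-- the seeds of the second type -/
def W' : Fin 5 → Gen := ![.e, .h, .g, .i, .j]

theorem ncomm_UW (h : IsCox x) (h0 : x .a ≠ x .b) (i : Fin 5) : x (U i) * x (W i) ≠ x (W i) * x (U i) := by
  have key : ∀ u w : Gen, adj u w = true → x u ≠ x w → x u * x w ≠ x w * x u := fun u w ha hne hc =>
    hne (eq_of_comm_braid (h.inv u) (h.inv w) hc (h.braid u w ha))
  fin_cases i
  · exact key _ _ rfl h0
  · exact key _ _ rfl (ne_cd h h0)
  · exact key _ _ rfl (ne_ef h h0)
  · exact key _ _ rfl (ne_gj h h0)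
  · exact key _ _ rfl (ne_hi h h0)

theorem comm_UW' (h : IsCox x) (i : Fin 5) : x (U' i) * x (W' i) = x (W' i) * x (U' i) := by
  fin_cases i <;> exact h.comm _ _ rfl

theorem ne_UW' (h : IsCox x) (h0 : x .a ≠ x .b) (i : Fin 5) : x (U' i) ≠ x (W' i) := by
  fin_cases i
  · exact ne_ae h h0
  · exact ne_bh h h0
  · exact ne_cg h h0
  · exact ne_di h h0
  · exact ne_fj h h0

theorem conj_comm (h : IsCox x) {u w : Gen} (hu : adj .a u = false) (hw : adj .a w = false) :
    x .a * (x u * x w) * x .a = x u * x w := by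
  calc x .a * (x u * x w) * x .a = (x .a * x u) * x w * x .a := by group
    _ = x u * (x .a * x w) * x .a := by rw [h.comm .a u hu]; group
    _ = x u * x w * (x .a * x .a) := by rw [h.comm .a w hw]; group
    _ = x u * x w := by rw [h.inv, mul_one]

/-- a subgroup containing all generators -/
theorem eq_top_of_mem (hg : closure (Set.range x) = ⊤) (Y : Subgroup G) (h : ∀ v, x v ∈ Y) : Y = ⊤ := by
  rw [eq_top_iff, ← hg, closure_le]
  rintro _ ⟨v, rfl⟩
  exact h v

theorem closure_one [IsSimpleGroup G] (h : IsCox x) (h0 : x .a ≠ x .b) (hg : closure (Set.range x) = ⊤) :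
    closure (Set.range fun i => x (U i) * x (W i)) = ⊤ := by
  have hs : ∀ i : Fin 5, x (U i) * x (W i) ∈ closure (Set.range fun i => x (U i) * x (W i)) :=
    fun i => subset_closure ⟨i, rfl⟩
  refine eq_top_of_norm (a := x .a) (h.inv .a) ?_ ?_ ?_
  · rintro _ ⟨i, rfl⟩
    fin_cases i
    · have h1 : x .a * (x .a * x .b) * x .a = (x .a * x .b)⁻¹ := by
        rw [mul_inv_rev, inv_eq_of_mul_eq_one_left (h.inv .a), inv_eq_of_mul_eq_one_left (h.inv .b), ← mul_assoc,
          h.inv, one_mul]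
      show x .a * (x .a * x .b) * x .a ∈ _
      rw [h1]
      exact Subgroup.inv_mem _ (hs 0)
    · show x .a * (x .c * x .d) * x .a ∈ _
      rw [conj_comm h rfl rfl]
      exact hs 1
    · show x .a * (x .e * x .f) * x .a ∈ _
      rw [conj_comm h rfl rfl]
      exact hs 2
    · show x .a * (x .g * x .j) * x .a ∈ _
      rw [conj_comm h rfl rfl]
      exact hs 3
    · show x .a * (x .h * x .i) * x .a ∈ _
      rw [conj_comm h rfl rfl]
      exact hs 4
  · intro Y ha hS
    have hb : x .b ∈ Y := by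
      have h1 := Y.mul_mem (Y.inv_mem ha) (hS ⟨0, rfl⟩ : x .a * x .b ∈ Y)
      rwa [inv_mul_cancel_left] at h1
    obtain ⟨hc, hd⟩ := step hb (hS ⟨1, rfl⟩ : x .c * x .d ∈ Y) (h.inv .b) (h.inv .c) (h.comm .d .b rfl)
      (h.braid .c .b rfl)
    obtain ⟨he, hf⟩ := step hd (hS ⟨2, rfl⟩ : x .e * x .f ∈ Y) (h.inv .d) (h.inv .e) (h.comm .f .d rfl)
      (h.braid .e .d rfl)
    obtain ⟨hgg, hj⟩ := step hf (hS ⟨3, rfl⟩ : x .g * x .j ∈ Y) (h.inv .f) (h.inv .g) (h.comm .j .f rfl)
      (h.braid .g .f rfl)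
    obtain ⟨hh, hi⟩ := step hd (hS ⟨4, rfl⟩ : x .h * x .i ∈ Y) (h.inv .d) (h.inv .h) (h.comm .i .d rfl)
      (h.braid .h .d rfl)
    apply eq_top_of_mem hg
    intro v
    cases v <;> assumption
  · refine ⟨_, ⟨0, rfl⟩, fun h1 => h0 ?_⟩
    have h2 : x .a = (x .b)⁻¹ := eq_inv_of_mul_eq_one_left h1
    rw [h2, inv_eq_of_mul_eq_one_left (h.inv .b)]

theorem closure_two [IsSimpleGroup G] (h : IsCox x) (h0 : x .a ≠ x .b) (hg : closure (Set.range x) = ⊤) :
    closure (Set.range fun i => x (U' i) * x (W' i)) = ⊤ := by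
  have hs : ∀ i : Fin 5, x (U' i) * x (W' i) ∈ closure (Set.range fun i => x (U' i) * x (W' i)) :=
    fun i => subset_closure ⟨i, rfl⟩
  refine eq_top_of_norm (a := x .a) (h.inv .a) ?_ ?_ ?_
  · rintro _ ⟨i, rfl⟩
    fin_cases i
    · have h1 : x .a * (x .a * x .e) * x .a = x .a * x .e := by
        rw [← mul_assoc, h.inv, one_mul]
        exact (h.comm .a .e rfl).symm
      show x .a * (x .a * x .e) * x .a ∈ _
      rw [h1]
      exact hs 0
    · have h1 : x .a * (x .b * x .h) * x .a = x .a * x .e * (x .b * x .h) * (x .a * x .e)⁻¹ := by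
        rw [mul_inv_rev, inv_eq_of_mul_eq_one_left (h.inv .a), inv_eq_of_mul_eq_one_left (h.inv .e)]
        calc x .a * (x .b * x .h) * x .a = x .a * (x .b * x .h) * (x .e * x .e) * x .a := by
              rw [h.inv, mul_one]
          _ = x .a * x .b * (x .h * x .e) * x .e * x .a := by group
          _ = x .a * (x .b * x .e) * x .h * x .e * x .a := by rw [h.comm .h .e rfl]; group
          _ = x .a * x .e * (x .b * x .h) * (x .e * x .a) := by rw [h.comm .b .e rfl]; group
      show x .a * (x .b * x .h) * x .a ∈ _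
      rw [h1]
      exact Subgroup.mul_mem _ (Subgroup.mul_mem _ (hs 0) (hs 1)) (Subgroup.inv_mem _ (hs 0))
    · show x .a * (x .c * x .g) * x .a ∈ _
      rw [conj_comm h rfl rfl]
      exact hs 2
    · show x .a * (x .d * x .i) * x .a ∈ _
      rw [conj_comm h rfl rfl]
      exact hs 3
    · show x .a * (x .f * x .j) * x .a ∈ _
      rw [conj_comm h rfl rfl]
      exact hs 4
  · intro Y ha hS
    have he : x .e ∈ Y := by
      have h1 := Y.mul_mem (Y.inv_mem ha) (hS ⟨0, rfl⟩ : x .a * x .e ∈ Y)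
      rwa [inv_mul_cancel_left] at h1
    obtain ⟨hb, hh⟩ := step ha (hS ⟨1, rfl⟩ : x .b * x .h ∈ Y) (h.inv .a) (h.inv .b) (h.comm .h .a rfl)
      (h.braid .b .a rfl)
    obtain ⟨hc, hgg⟩ := step hb (hS ⟨2, rfl⟩ : x .c * x .g ∈ Y) (h.inv .b) (h.inv .c) (h.comm .g .b rfl)
      (h.braid .c .b rfl)
    obtain ⟨hd, hi⟩ := step hc (hS ⟨3, rfl⟩ : x .d * x .i ∈ Y) (h.inv .c) (h.inv .d) (h.comm .i .c rfl)
      (h.braid .d .c rfl)
    obtain ⟨hf, hj⟩ := step he (hS ⟨4, rfl⟩ : x .f * x .j ∈ Y) (h.inv .e) (h.inv .f) (h.comm .j .e rfl)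
      (h.braid .f .e rfl)
    apply eq_top_of_mem hg
    intro v
    cases v <;> assumption
  · refine ⟨_, ⟨0, rfl⟩, fun h1 => ne_ae h h0 ?_⟩
    have h2 : x .a = (x .e)⁻¹ := eq_inv_of_mul_eq_one_left h1
    rw [h2, inv_eq_of_mul_eq_one_left (h.inv .e)]

end Cfsg.Agent.H465.Gen.Seeds
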