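import Cfsg.Agent.H147.Gen.Base
import Cfsg.Agent.H365.PiFi.Base
import Cfsg.Agent.Fischer.Abstract

/-!
# S4327, groups generated by 3-transpositions: few conjugates generate (helper465)

* `exists_f` : `2 n` conjugates of an automorphism `x` generate a group containing `n` conjugates of `x l * l⁻¹`;
* `ca_of_range_le`, `step`, `eq_top_of_norm`, `ca_of_rank3`, `rank3_of` (from the rank three data of `Fischer.Abstract`).
-/

set_option autoImplicit false

namespace Cfsg.Agent.H465.Gen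

open Subgroup Cfsg.Agent.H147.Gen

section Abs

variable {L : Type*} [Group L]

/-- `2 n` conjugates of `x` contain `n` conjugates of `x l * l⁻¹` -/
theorem exists_f {n : ℕ} {x : MulAut L} {l : L} (seed : Fin n → L)
    (h : ∀ i, ∃ s : L, s * (x l * l⁻¹) * s⁻¹ = seed i) :
    ∃ f : Fin (n + n) → L, (closure (Set.range seed)).map (MulAut.conj : L →* MulAut L) ≤
      closure (Set.range fun i => MulAut.conj (f i) * x * (MulAut.conj (f i))⁻¹) := by
  choose s hs using h
  refine ⟨Fin.append s (fun i => s i * l), ?_⟩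
  rw [MonoidHom.map_closure, closure_le]
  rintro _ ⟨_, ⟨i, rfl⟩, rfl⟩
  have h1 : MulAut.conj (seed i) = MulAut.conj (s i) * x * (MulAut.conj (s i))⁻¹ *
      (MulAut.conj (s i * l) * x * (MulAut.conj (s i * l))⁻¹)⁻¹ := by
    rw [← hs i, map_mul, map_mul, map_mul, map_inv, map_inv, ← aut_conj, map_mul]
    group
  rw [SetLike.mem_coe, h1]
  refine Subgroup.mul_mem _ (Subgroup.subset_closure ⟨Fin.castAdd n i, ?_⟩)
    (Subgroup.inv_mem _ (Subgroup.subset_closure ⟨Fin.natAdd n i, ?_⟩))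
  · simp only [Fin.append_left]
  · simp only [Fin.append_right]

theorem ca_of_range_le {k : ℕ} (hk : 0 < k) {x : MulAut L} (f : Fin k → L)
    (h : (MulAut.conj : L →* MulAut L).range ≤
      closure (Set.range fun i => MulAut.conj (f i) * x * (MulAut.conj (f i))⁻¹)) : CA k x := by
  refine ⟨f, le_antisymm ?_ (sup_le ?_ h)⟩
  · rw [closure_le]
    rintro _ ⟨i, rfl⟩
    have h1 : MulAut.conj (f i) ∈ zpowers x ⊔ (MulAut.conj : L →* MulAut L).range := mem_sup_right ⟨_, rfl⟩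
    exact Subgroup.mul_mem _ (Subgroup.mul_mem _ h1 (mem_sup_left (mem_zpowers x))) (Subgroup.inv_mem _ h1)
  · rw [zpowers_le]
    have h1 : MulAut.conj (f ⟨0, hk⟩) ∈ closure (Set.range fun i => MulAut.conj (f i) * x * (MulAut.conj (f i))⁻¹) :=
      h ⟨f ⟨0, hk⟩, rfl⟩
    have h2 : MulAut.conj (f ⟨0, hk⟩) * x * (MulAut.conj (f ⟨0, hk⟩))⁻¹ ∈
        closure (Set.range fun i => MulAut.conj (f i) * x * (MulAut.conj (f i))⁻¹) :=
      Subgroup.subset_closure ⟨⟨0, hk⟩, rfl⟩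
    have h3 : x = (MulAut.conj (f ⟨0, hk⟩))⁻¹ * (MulAut.conj (f ⟨0, hk⟩) * x * (MulAut.conj (f ⟨0, hk⟩))⁻¹) *
        MulAut.conj (f ⟨0, hk⟩) := by group
    have h4 := Subgroup.mul_mem _ (Subgroup.mul_mem _ (Subgroup.inv_mem _ h1) h2) h1
    rwa [← h3] at h4

end Abs

section Cox

variable {G : Type*} [Group G]

/-- the elementary step along an edge -/
theorem step {Y : Subgroup G} {t u w : G} (ht : t ∈ Y) (huw : u * w ∈ Y) (tt : t * t = 1) (uu : u * u = 1)
    (hc : w * t = t * w) (hb : u * t * u = t * u * t) : u ∈ Y ∧ w ∈ Y := by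
  have h1 : u * w * t * (u * w)⁻¹ = t * u * t := by
    rw [← hb, mul_inv_rev, inv_eq_of_mul_eq_one_left uu]
    calc u * w * t * (w⁻¹ * u) = u * (w * t) * w⁻¹ * u := by group
      _ = u * t * u := by rw [hc]; group
  have h2 : t * u * t ∈ Y := by
    rw [← h1]
    exact Y.mul_mem (Y.mul_mem huw ht) (Y.inv_mem huw)
  have h3 : u ∈ Y := by
    have h4 := Y.mul_mem (Y.mul_mem ht h2) ht
    have h5 : t * (t * u * t) * t = u := by
      calc t * (t * u * t) * t = (t * t) * u * (t * t) := by group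
        _ = u := by rw [tt, one_mul, mul_one]
    rwa [h5] at h4
  refine ⟨h3, ?_⟩
  have h6 := Y.mul_mem (Y.inv_mem h3) huw
  rwa [inv_mul_cancel_left] at h6

/-- a nontrivial subgroup `X`, normalised by `a` with `⟨X, a⟩ = G`, `G` simple -/
theorem eq_top_of_norm [IsSimpleGroup G] {S : Set G} {a : G} (haa : a * a = 1)
    (hS : ∀ s ∈ S, a * s * a ∈ closure S) (hY : ∀ Y : Subgroup G, a ∈ Y → S ⊆ Y → Y = ⊤)
    (hne : ∃ s ∈ S, s ≠ 1) : closure S = ⊤ := by
  have hai : a⁻¹ = a := inv_eq_of_mul_eq_one_left haa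
  have h1 : ∀ s ∈ closure S, a * s * a⁻¹ ∈ closure S := by
    have h2 : closure S ≤ (closure S).comap (MulAut.conj a).toMonoidHom := by
      rw [closure_le]
      intro s hs
      show a * s * a⁻¹ ∈ closure S
      rw [hai]
      exact hS s hs
    intro s hs
    exact h2 hs
  have h3 : a ∈ normalizer (closure S : Set G) := by
    rw [mem_normalizer_iff]
    intro s
    refine ⟨h1 s, fun hs => ?_⟩
    have h4 := h1 _ hs
    have h5 : a * (a * s * a⁻¹) * a⁻¹ = s := by
      rw [hai]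
      calc a * (a * s * a) * a = (a * a) * s * (a * a) := by group
        _ = s := by rw [haa, one_mul, mul_one]
    rwa [h5] at h4
  have h6 : normalizer (closure S : Set G) = ⊤ :=
    hY _ h3 (subset_closure.trans le_normalizer)
  have h7 : (closure S).Normal := normalizer_eq_top_iff.1 h6
  rcases h7.eq_bot_or_eq_top with h8 | h8
  · exfalso
    obtain ⟨s, hs, hs1⟩ := hne
    apply hs1
    have h9 : s ∈ closure S := subset_closure hs
    rwa [h8, mem_bot] at h9
  · exact h8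

end Cox

section Rank

variable {L : Type*} [Group L] {T : Set L}

/-- **Groups with a class of 3-transpositions**: `n` products of transpositions of each type generate -/
theorem ca_of_rank3 (R : H365.PiFi.Rank3 L T) {n : ℕ} (hn : 0 < n) {u w u' w' : Fin n → L}
    (hu : ∀ i, u i ∈ T) (hw : ∀ i, w i ∈ T) (hu' : ∀ i, u' i ∈ T) (hw' : ∀ i, w' i ∈ T)
    (hN : ∀ i, u i * w i ≠ w i * u i) (hC : ∀ i, u' i * w' i = w' i * u' i) (hne : ∀ i, u' i ≠ w' i)
    (h1 : closure (Set.range fun i => u i * w i) = ⊤) (h2 : closure (Set.range fun i => u' i * w' i) = ⊤)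
    {x : MulAut L} (hx : x ≠ 1) : CA (n + n) x := by
  obtain ⟨t, ht, hxt⟩ := H365.PiFi.exists_moved R hx
  have hxT := R.aut x t ht
  have hti : t⁻¹ = t := inv_eq_of_mul_eq_one_left (R.sq t ht)
  have fin : ∀ seed : Fin n → L, closure (Set.range seed) = ⊤ →
      (∀ i, ∃ s : L, s * (x t * t⁻¹) * s⁻¹ = seed i) → CA (n + n) x := by
    intro seed hs h
    obtain ⟨f, hf⟩ := exists_f seed h
    rw [hs, ← MonoidHom.range_eq_map] at hf
    exact ca_of_range_le (by omega) f hf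
  by_cases hc : x t * t = t * x t
  · refine fin _ h2 fun i => ?_
    obtain ⟨g, hg1, hg2⟩ := R.trans2 (x t) hxT t ht (u' i) (hu' i) (w' i) (hw' i) hxt (hne i) hc (hC i)
    refine ⟨g, ?_⟩
    rw [hti, ← hg1, ← hg2]
    group
  · refine fin _ h1 fun i => ?_
    obtain ⟨g, hg1, hg2⟩ := R.transN (x t) hxT t ht (u i) (hu i) (w i) (hw i) hc (hN i)
    refine ⟨g, ?_⟩
    rw [hti, ← hg1, ← hg2]
    group

end Rank

section Pairs

variable {G X : Type*} [Group G] [MulAction G X] (R : Fischer.Abstract.Rank3 G X)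

theorem transC {x y x' y' : X} (h : R.Com x y) (hne : x ≠ y) (h' : R.Com x' y') (hne' : x' ≠ y') :
    ∃ g : G, g • x = x' ∧ g • y = y' := by
  have key : ∀ x y : X, R.Com x y → x ≠ y → ∃ g : G, g • R.x0 = x ∧ g • R.c = y := by
    intro x y h hne
    obtain ⟨g, rfl⟩ := R.trans x
    have h1 : R.Com R.x0 (g⁻¹ • y) := by
      rw [← R.com_smul g, smul_inv_smul]
      exact h
    rcases R.com_x0_iff.1 h1 with h2 | ⟨k, hk, h2⟩
    · exfalso
      apply hne
      rw [← h2, smul_inv_smul]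
    · refine ⟨g * k, ?_, ?_⟩
      · rw [mul_smul, hk]
      · rw [mul_smul, h2, smul_inv_smul]
  obtain ⟨g, rfl, rfl⟩ := key x y h hne
  obtain ⟨g', rfl, rfl⟩ := key x' y' h' hne'
  exact ⟨g' * g⁻¹, by rw [mul_smul, inv_smul_smul], by rw [mul_smul, inv_smul_smul]⟩

theorem transN {x y x' y' : X} (h : ¬ R.Com x y) (h' : ¬ R.Com x' y') : ∃ g : G, g • x = x' ∧ g • y = y' := by
  have key : ∀ x y : X, ¬ R.Com x y → ∃ g : G, g • R.x0 = x ∧ g • R.b = y := by
    intro x y h
    obtain ⟨g, rfl⟩ := R.trans x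
    have h1 : ¬ R.Com R.x0 (g⁻¹ • y) := by
      rw [← R.com_smul g, smul_inv_smul]
      exact h
    obtain ⟨k, hk, h2⟩ := R.not_com_x0_iff.1 h1
    refine ⟨g * k, ?_, ?_⟩
    · rw [mul_smul, hk]
    · rw [mul_smul, h2, smul_inv_smul]
  obtain ⟨g, rfl, rfl⟩ := key x y h
  obtain ⟨g', rfl, rfl⟩ := key x' y' h'
  exact ⟨g' * g⁻¹, by rw [mul_smul, inv_smul_smul], by rw [mul_smul, inv_smul_smul]⟩

theorem rank3_of (haut : ∀ α : G ≃* G, ∀ t ∈ Set.range R.t, α t ∈ Set.range R.t) :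
    H365.PiFi.Rank3 G (Set.range R.t) where
  gen := R.gen
  sq := by rintro _ ⟨x, rfl⟩; exact R.sq' x
  aut := haut
  trans2 := by
    rintro _ ⟨x, rfl⟩ _ ⟨y, rfl⟩ _ ⟨x', rfl⟩ _ ⟨y', rfl⟩ hne hne' h h'
    obtain ⟨g, rfl, rfl⟩ := transC R (x := x) (y := y) (x' := x') (y' := y') h (fun h => hne (by rw [h])) h'
      (fun h => hne' (by rw [h]))
    exact ⟨g, (R.map_smul g x).symm, (R.map_smul g y).symm⟩
  transN := by
    rintro _ ⟨x, rfl⟩ _ ⟨y, rfl⟩ _ ⟨x', rfl⟩ _ ⟨y', rfl⟩ h h'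
    obtain ⟨g, rfl, rfl⟩ := transN R (x := x) (y := y) (x' := x') (y' := y') h h'
    exact ⟨g, (R.map_smul g x).symm, (R.map_smul g y).symm⟩

end Pairs

end Cfsg.Agent.H465.Gen
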